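import Cfsg.Agent.Lib.Helper6.TCD.SuzU1.SH
import Cfsg.Agent.Lib.Helper6.TCD.SuzU1.SC
import Cfsg.Agent.Lib.Helper6.TCD.SuzU1.NH
import Cfsg.Agent.Lib.Helper6.TCD.SuzU1.NC
import Cfsg.Agent.Lib.Helper6.TCD.SuzU1.WD
import Cfsg.Agent.Lib.Helper6.TCD.SuzU1.WI
set_option autoImplicit false
namespace Cfsg.Agent.Lib.Helper6.TCD.SuzU1
def n : Nat := 1396
def ncol : Nat := 6
def nrw : Nat := 114
def nw : Nat := 119
def tmax : Nat := 7649
def INV : Nat := 5517840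
def N : Nat := 416
end Cfsg.Agent.Lib.Helper6.TCD.SuzU1
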